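import Groth.Agent.GrUnit.Basic

/-!
Adjoining a root of a homogeneous unit to a graded ring.
-/

set_option autoImplicit false
set_option linter.style.haveILetI false
universe u

open DirectSum

namespace Groth.Agent.GrUnit

open LaurentPolynomial in
theorem isRegularRing_laurent (B : Type u) [CommRing B] [IsRegularRing B] : IsRegularRing (LaurentPolynomial B) := by
  haveI : IsNoetherianRing (LaurentPolynomial B) :=
    IsLocalization.isNoetherianRing (Submonoid.powers (Polynomial.X : Polynomial B)) _ inferInstance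
  refine isRegularRing_iff.mpr fun Q _ => ?_
  haveI := IsLocalization.isLocalization_isLocalization_atPrime_isLocalization
    (Submonoid.powers (Polynomial.X : Polynomial B)) (Localization.AtPrime Q) Q
  haveI := IsRegularRing.isRegularLocalRing_localization (R := Polynomial B)
    (Q.comap (algebraMap (Polynomial B) (LaurentPolynomial B)))
  exact IsRegularLocalRing.of_ringEquiv (IsLocalization.algEquiv
    (Q.comap (algebraMap (Polynomial B) (LaurentPolynomial B))).primeCompl
    (Localization.AtPrime (Q.comap (algebraMap (Polynomial B) (LaurentPolynomial B)))) (Localization.AtPrime Q)).toRingEquiv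

variable {R : Type u} [CommRing R] (𝒜 : ℤ → AddSubgroup R) [GradedRing 𝒜]
  (N : ℕ) (hN : 0 < N) (u : Rˣ) (hu : (u : R) ∈ 𝒜 (N : ℤ)) [IsLocalRing (GrLC.deg0 𝒜)]
  (hm : ∀ (i j : ℤ), 0 < i → 0 < j → i + j = (N : ℤ) → ∀ a ∈ 𝒜 i, ∀ b ∈ 𝒜 j,
    ∃ c : GrLC.deg0 𝒜, c ∈ IsLocalRing.maximalIdeal (GrLC.deg0 𝒜) ∧ a * b = (c : R) * u)

open LaurentPolynomial in
include hN hu hm in
/-- Adjoining an `N`-th root of `u` keeps regularity. -/
theorem isRegularRing_adjoinRoot [IsRegularRing R] :
    IsRegularRing (AdjoinRoot (Polynomial.X ^ N - Polynomial.C (u : R))) := by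
  haveI := isRegularLocalRing_quotient 𝒜 N hN u hu hm
  let B := R ⧸ Ideal.span {(u : R) - 1}
  haveI : IsRegularRing B := RegularSerre.isRegularRing_of_isRegularLocalRing B
  haveI := isRegularRing_laurent B
  let f := Polynomial.X ^ N - Polynomial.C (u : R)
  let π := Ideal.Quotient.mk (Ideal.span {(u : R) - 1})
  have hπu : π (u : R) = 1 := by rw [← map_one π]; exact Ideal.Quotient.eq.2 (Ideal.mem_span_singleton_self _)
  let τ : (LaurentPolynomial B)ˣ := (isUnit_T (R := B) 1).unit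
  have hτ : ∀ n : ℤ, ((τ ^ n : (LaurentPolynomial B)ˣ) : LaurentPolynomial B) = T n := by
    intro n
    induction n using Int.induction_on with
    | zero => simp
    | succ j ih => rw [zpow_add_one, Units.val_mul, ih, IsUnit.unit_spec, ← T_add]
    | pred j ih =>
      have h1 : (τ : LaurentPolynomial B) * T (-1) = 1 := by rw [IsUnit.unit_spec, ← T_add]; simp
      rw [zpow_sub_one, Units.val_mul, ih, τ.inv_eq_of_mul_eq_one_right h1, ← T_add]
      rfl
  let φ : R →+* LaurentPolynomial B := twist 𝒜 (LaurentPolynomial.C.comp π) τ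
  have hφu : φ (u : R) = T (N : ℤ) := by
    rw [show φ (u : R) = _ from twist_of_mem 𝒜 _ τ hu, RingHom.comp_apply, hπu, map_one, one_mul, hτ]
  have hroot : f.eval₂ φ (T 1) = 0 := by
    simp [f, hφu, T_pow]
  let Φ : AdjoinRoot f →+* LaurentPolynomial B := AdjoinRoot.lift φ (T 1) hroot
  let U := AdjoinRoot.root f
  have hU : U ^ N = AdjoinRoot.of f (u : R) := by
    have h := AdjoinRoot.eval₂_root f
    simp only [f, Polynomial.eval₂_sub, Polynomial.eval₂_pow, Polynomial.eval₂_X, Polynomial.eval₂_C] at h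
    exact sub_eq_zero.1 h
  have hUu : IsUnit U := (isUnit_pow_iff hN.ne').1 (hU ▸ u.isUnit.map (AdjoinRoot.of f))
  let Uu := hUu.unit
  let ψ : R →+* AdjoinRoot f := twist 𝒜 (AdjoinRoot.of f) Uu⁻¹
  have hψu : ψ (u : R) = 1 := by
    rw [show ψ (u : R) = _ from twist_of_mem 𝒜 _ Uu⁻¹ hu, ← hU, zpow_natCast, inv_pow]
    have : ((Uu ^ N : (AdjoinRoot f)ˣ) : AdjoinRoot f) = U ^ N := by simp [Uu]
    rw [← this, Units.mul_inv]
  let ψb : B →+* AdjoinRoot f := Ideal.Quotient.lift _ ψ fun a ha => by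
    obtain ⟨c, rfl⟩ := Ideal.mem_span_singleton'.1 ha
    rw [map_mul, map_sub, hψu, map_one, sub_self, mul_zero]
  let Ψ : LaurentPolynomial B →+* AdjoinRoot f := LaurentPolynomial.eval₂ ψb Uu
  have hΨT : ∀ n : ℤ, Ψ (T n) = ((Uu ^ n : (AdjoinRoot f)ˣ) : AdjoinRoot f) := fun n => by simp [Ψ]
  have hΨC : ∀ b, Ψ (LaurentPolynomial.C b) = ψb b := fun b => by simp [Ψ]
  have hΦU : Φ U = T 1 := AdjoinRoot.lift_root hroot
  have hΦUu : ∀ n : ℤ, Φ ((Uu ^ n : (AdjoinRoot f)ˣ) : AdjoinRoot f) = T n := fun n => by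
    rw [← hτ]
    show ((Units.map (Φ : AdjoinRoot f →* LaurentPolynomial B) (Uu ^ n) : (LaurentPolynomial B)ˣ) : LaurentPolynomial B) = _
    rw [map_zpow]
    congr 2
    exact Units.ext (by simpa [Uu, τ] using hΦU)
  have hΨΦ : Ψ.comp Φ = RingHom.id _ := by
    refine AdjoinRoot.ringHom_ext ?_ ?_
    · refine hom_ext 𝒜 fun i a ha => ?_
      simp only [RingHom.comp_apply, RingHom.id_apply]
      rw [show Φ (AdjoinRoot.of f a) = φ a from AdjoinRoot.lift_of hroot,
        show φ a = _ from twist_of_mem 𝒜 _ τ ha, RingHom.comp_apply, hτ, map_mul, hΨC, hΨT,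
        show ψb (π a) = ψ a from Ideal.Quotient.lift_mk _ _ _, show ψ a = _ from twist_of_mem 𝒜 _ _ ha, mul_assoc,
        ← Units.val_mul, inv_zpow, inv_mul_cancel, Units.val_one, mul_one]
    · show Ψ (Φ U) = U
      rw [hΦU, hΨT, zpow_one, IsUnit.unit_spec]
  have hΦψ : ∀ r, Φ (ψ r) = LaurentPolynomial.C (π r) := fun r => by
    refine RingHom.congr_fun (hom_ext 𝒜 (φ := Φ.comp ψ) (ψ := LaurentPolynomial.C.comp π) fun i a ha => ?_) r
    rw [RingHom.comp_apply, show ψ a = _ from twist_of_mem 𝒜 _ _ ha, map_mul,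
      show Φ (AdjoinRoot.of f a) = φ a from AdjoinRoot.lift_of hroot,
      show φ a = _ from twist_of_mem 𝒜 _ τ ha, RingHom.comp_apply, hτ, inv_zpow', hΦUu, mul_assoc, ← T_add,
      add_neg_cancel, T_zero, mul_one]
  have hΦΨ : Φ.comp Ψ = RingHom.id _ := by
    refine RingHom.ext fun p => ?_
    show Φ (Ψ p) = p
    induction p using LaurentPolynomial.induction_on' with
    | add p q hp hq => rw [map_add, map_add, hp, hq]
    | C_mul_T n a =>
      obtain ⟨r, rfl⟩ := Ideal.Quotient.mk_surjective a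
      rw [map_mul, map_mul, hΨC, hΨT, hΦUu, show ψb (π r) = ψ r from Ideal.Quotient.lift_mk _ _ _, hΦψ]
  exact IsRegularRing.of_ringEquiv (RingEquiv.ofRingHom Ψ Φ hΨΦ hΦΨ)

end Groth.Agent.GrUnit
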