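import Groth.Prelude.Def_GrLC
import Groth.Agent.DepthLib.RegularQuotient
import Groth.Agent.RegularSerre.Localization
import Mathlib

/-!
Graded rings with a homogeneous unit of positive degree.
-/

set_option autoImplicit false
set_option linter.style.haveILetI false
universe u

open DirectSum

namespace Groth.Agent.GrUnit

variable {R : Type u} [CommRing R] (𝒜 : ℤ → AddSubgroup R) [GradedRing 𝒜]

/-- A ring homomorphism out of a graded ring from maps on the pieces. -/
noncomputable def homOfPieces {S : Type*} [CommRing S] (f : ∀ i, 𝒜 i →+ S)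
    (h1 : f 0 ⟨1, SetLike.one_mem_graded 𝒜⟩ = 1)
    (hmul : ∀ {i j} (a : 𝒜 i) (b : 𝒜 j), f (i + j) ⟨a * b, SetLike.mul_mem_graded a.2 b.2⟩ = f i a * f j b) :
    R →+* S :=
  (DirectSum.toSemiring f h1 (fun a b => hmul a b)).comp (DirectSum.decomposeRingEquiv 𝒜).toRingHom

theorem homOfPieces_of_mem {S : Type*} [CommRing S] (f : ∀ i, 𝒜 i →+ S) (h1 hmul) {i : ℤ} {a : R} (ha : a ∈ 𝒜 i) :
    homOfPieces 𝒜 f h1 hmul a = f i ⟨a, ha⟩ := by
  show DirectSum.toSemiring f h1 (fun a b => hmul a b) (DirectSum.decompose 𝒜 a) = _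
  rw [DirectSum.decompose_of_mem 𝒜 ha, DirectSum.toSemiring_of]

theorem hom_ext {S : Type*} [CommRing S] {φ ψ : R →+* S} (h : ∀ i, ∀ a ∈ 𝒜 i, φ a = ψ a) : φ = ψ := by
  classical
  ext r
  rw [← DirectSum.sum_support_decompose 𝒜 r, map_sum, map_sum]
  exact Finset.sum_congr rfl fun i _ => h i _ (Subtype.prop _)

/-- Twisting a homomorphism by powers of a unit. -/
noncomputable def twist {S : Type*} [CommRing S] (g : R →+* S) (w : Sˣ) : R →+* S :=
  homOfPieces 𝒜 (fun i => AddMonoidHom.mk' (fun a => g a * ((w ^ i : Sˣ) : S)) fun a b => by simp [add_mul])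
    (by simp)
    (fun {i j} a b => by
      show g ((a : R) * b) * ((w ^ (i + j) : Sˣ) : S) = g a * ((w ^ i : Sˣ) : S) * (g b * ((w ^ j : Sˣ) : S))
      rw [map_mul, zpow_add, Units.val_mul]
      ring)

theorem twist_of_mem {S : Type*} [CommRing S] (g : R →+* S) (w : Sˣ) {i : ℤ} {a : R} (ha : a ∈ 𝒜 i) :
    twist 𝒜 g w a = g a * ((w ^ i : Sˣ) : S) := by
  rw [twist, homOfPieces_of_mem 𝒜 _ _ _ ha]
  rfl

variable (N : ℕ) (hN : 0 < N) (u : Rˣ) (hu : (u : R) ∈ 𝒜 (N : ℤ))

include hu in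
theorem inv_mem : ((u⁻¹ : Rˣ) : R) ∈ 𝒜 (-(N : ℤ)) := by
  have h : (((DirectSum.decompose 𝒜 ((u : R) * ((u⁻¹ : Rˣ) : R))) ((N : ℤ) + -(N : ℤ))) : R) =
      (u : R) * ((DirectSum.decompose 𝒜 ((u⁻¹ : Rˣ) : R)) (-(N : ℤ)) : R) :=
    DirectSum.coe_decompose_mul_add_of_left_mem 𝒜 hu
  rw [Units.mul_inv, add_neg_cancel, DirectSum.decompose_of_mem_same 𝒜 (SetLike.one_mem_graded 𝒜)] at h
  rw [u.inv_eq_of_mul_eq_one_right h.symm]
  exact Subtype.prop _

include hu in
theorem zpow_mem (j : ℤ) : ((u ^ j : Rˣ) : R) ∈ 𝒜 (j * N) := by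
  induction j using Int.induction_on with
  | zero => simpa using SetLike.one_mem_graded 𝒜
  | succ j ih =>
    rw [zpow_add_one, Units.val_mul, add_mul, one_mul]
    exact SetLike.mul_mem_graded ih hu
  | pred j ih =>
    rw [zpow_sub_one, Units.val_mul, sub_mul, one_mul, sub_eq_add_neg]
    exact SetLike.mul_mem_graded ih (inv_mem 𝒜 N u hu)

include hu in
/-- Moving a homogeneous element of degree divisible by `N` to degree zero. -/
theorem mul_zpow_mem {i : ℤ} (h : (N : ℤ) ∣ i) {a : R} (ha : a ∈ 𝒜 i) :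
    a * ((u ^ (-(i / N)) : Rˣ) : R) ∈ GrLC.deg0 𝒜 := by
  have h2 := SetLike.mul_mem_graded ha (zpow_mem 𝒜 N u hu (-(i / N)))
  rw [neg_mul, Int.ediv_mul_cancel h, add_neg_cancel] at h2
  exact h2

variable [IsLocalRing (GrLC.deg0 𝒜)]
  (hm : ∀ (i j : ℤ), 0 < i → 0 < j → i + j = (N : ℤ) → ∀ a ∈ 𝒜 i, ∀ b ∈ 𝒜 j,
    ∃ c : GrLC.deg0 𝒜, c ∈ IsLocalRing.maximalIdeal (GrLC.deg0 𝒜) ∧ a * b = (c : R) * u)

include hN hu hm in
/-- A product of two homogeneous elements of degree prime to `N` lands in the maximal ideal. -/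
theorem prod_mem {i j : ℤ} (hi : ¬ (N : ℤ) ∣ i) (hij : (N : ℤ) ∣ i + j) {a b : R} (ha : a ∈ 𝒜 i) (hb : b ∈ 𝒜 j) :
    (⟨a * b * ((u ^ (-((i + j) / N)) : Rˣ) : R), mul_zpow_mem 𝒜 N u hu hij (SetLike.mul_mem_graded ha hb)⟩ :
      GrLC.deg0 𝒜) ∈ IsLocalRing.maximalIdeal (GrLC.deg0 𝒜) := by
  obtain ⟨q, hq⟩ := hij
  have hN' : (0 : ℤ) < N := by exact_mod_cast hN
  have h0 : 0 < i % N := lt_of_le_of_ne (Int.emod_nonneg _ hN'.ne') fun h => hi (Int.dvd_of_emod_eq_zero h.symm)
  have h1 : i % N < N := Int.emod_lt_of_pos _ hN'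
  have ha' : a * ((u ^ (-(i / N)) : Rˣ) : R) ∈ 𝒜 (i % N) := by
    have := SetLike.mul_mem_graded ha (zpow_mem 𝒜 N u hu (-(i / N)))
    rwa [show i + -(i / N) * N = i % N by rw [Int.emod_def]; ring] at this
  have hb' : b * ((u ^ (-(q - i / N - 1)) : Rˣ) : R) ∈ 𝒜 (N - i % N) := by
    have := SetLike.mul_mem_graded hb (zpow_mem 𝒜 N u hu (-(q - i / N - 1)))
    rwa [show j + -(q - i / N - 1) * N = N - i % N by rw [Int.emod_def]; linear_combination hq] at this
  obtain ⟨c, hc, he⟩ := hm _ _ h0 (by omega) (by ring) _ ha' _ hb'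
  convert hc using 1
  refine Subtype.ext ?_
  show a * b * ((u ^ (-((i + j) / N)) : Rˣ) : R) = (c : R)
  have h2 : (i + j) / N = q := by rw [hq]; exact Int.mul_ediv_cancel_left _ hN'.ne'
  rw [h2, ← u.mul_left_inj, ← he]
  rw [show a * ((u ^ (-(i / N)) : Rˣ) : R) * (b * ((u ^ (-(q - i / N - 1)) : Rˣ) : R)) =
    a * b * (((u ^ (-(i / N)) : Rˣ) : R) * ((u ^ (-(q - i / N - 1)) : Rˣ) : R)) by ring, mul_assoc (a * b)]
  congr 1
  rw [← Units.val_mul, ← Units.val_mul, ← zpow_add, ← zpow_add_one]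
  congr 2
  ring

/-- The map killing the degrees prime to `N` and sending `u` to `w`. -/
noncomputable def resHom {S : Type*} [CommRing S] (g : GrLC.deg0 𝒜 →+* S)
    (hg : ∀ c ∈ IsLocalRing.maximalIdeal (GrLC.deg0 𝒜), g c = 0) (w : Sˣ) : R →+* S :=
  homOfPieces 𝒜
    (fun i => AddMonoidHom.mk'
      (fun a => if h : (N : ℤ) ∣ i then g ⟨_, mul_zpow_mem 𝒜 N u hu h a.2⟩ * ((w ^ (i / N) : Sˣ) : S) else 0)
      fun a b => by
        split_ifs with h
        · rw [← add_mul, ← map_add]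
          congr 2
          exact Subtype.ext (add_mul _ _ _)
        · simp)
    (by
      rw [AddMonoidHom.mk'_apply, dif_pos (dvd_zero _)]
      simp only [Int.zero_ediv, zpow_zero, Units.val_one, mul_one, neg_zero]
      exact map_one g)
    (fun {i j} a b => by
      simp only [AddMonoidHom.mk'_apply]
      by_cases hi : (N : ℤ) ∣ i
      · rw [dif_pos hi]
        by_cases hj : (N : ℤ) ∣ j
        · rw [dif_pos hj, dif_pos (dvd_add hi hj)]
          have e : (i + j) / N = i / N + j / N := Int.add_ediv_of_dvd_left hi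
          rw [mul_mul_mul_comm, ← map_mul, ← Units.val_mul, ← zpow_add, ← e]
          congr 2
          refine Subtype.ext ?_
          show (a : R) * b * ((u ^ (-((i + j) / N)) : Rˣ) : R) =
            (a : R) * ((u ^ (-(i / N)) : Rˣ) : R) * ((b : R) * ((u ^ (-(j / N)) : Rˣ) : R))
          rw [mul_mul_mul_comm, ← Units.val_mul, ← zpow_add, e, neg_add]
        · rw [dif_neg hj, dif_neg (fun h => hj ((dvd_add_right hi).1 h)), mul_zero]
      · rw [dif_neg hi, zero_mul]
        split_ifs with hij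
        · rw [hg _ (prod_mem 𝒜 N hN u hu hm hi hij a.2 b.2), zero_mul]
        · rfl)

theorem resHom_of_dvd {S : Type*} [CommRing S] (g : GrLC.deg0 𝒜 →+* S) (hg) (w : Sˣ) {i : ℤ} (h : (N : ℤ) ∣ i)
    {a : R} (ha : a ∈ 𝒜 i) : resHom 𝒜 N hN u hu hm g hg w a =
      g ⟨_, mul_zpow_mem 𝒜 N u hu h ha⟩ * ((w ^ (i / N) : Sˣ) : S) := by
  rw [resHom, homOfPieces_of_mem 𝒜 _ _ _ ha, AddMonoidHom.mk'_apply, dif_pos h]

theorem resHom_u {S : Type*} [CommRing S] (g : GrLC.deg0 𝒜 →+* S) (hg) (w : Sˣ) :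
    resHom 𝒜 N hN u hu hm g hg w (u : R) = w := by
  rw [resHom_of_dvd 𝒜 N hN u hu hm g hg w dvd_rfl hu]
  have hN' : (N : ℤ) ≠ 0 := by exact_mod_cast hN.ne'
  simp only [Int.ediv_self hN', zpow_one]
  rw [show (⟨(u : R) * ((u ^ (-(1 : ℤ)) : Rˣ) : R), _⟩ : GrLC.deg0 𝒜) = 1 from Subtype.ext (by simp), map_one, one_mul]

include hN hu hm in
/-- The quotient by `u - 1` of a regular ring is a regular local ring. -/
theorem isRegularLocalRing_quotient [IsRegularRing R] : IsRegularLocalRing (R ⧸ Ideal.span {(u : R) - 1}) := by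
  classical
  let R₀ := GrLC.deg0 𝒜
  let k := IsLocalRing.ResidueField R₀
  have hres : ∀ c ∈ IsLocalRing.maximalIdeal R₀, IsLocalRing.residue R₀ c = 0 :=
    fun c hc => (IsLocalRing.residue_eq_zero_iff c).2 hc
  let χ : R →+* k := resHom 𝒜 N hN u hu hm (IsLocalRing.residue R₀) hres 1
  have hχu : χ (u : R) = 1 := (resHom_u 𝒜 N hN u hu hm _ hres 1).trans Units.val_one
  have hχ0 : ∀ c : R₀, χ (c : R) = IsLocalRing.residue R₀ c := fun c => by
    rw [show χ (c : R) = _ from resHom_of_dvd 𝒜 N hN u hu hm _ hres 1 (dvd_zero _) c.2]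
    simp
  have hχsurj : Function.Surjective χ := fun z => by
    obtain ⟨c, rfl⟩ := IsLocalRing.residue_surjective z
    exact ⟨c, hχ0 c⟩
  let P := RingHom.ker χ
  haveI hPmax : P.IsMaximal := RingHom.ker_isMaximal_of_surjective χ hχsurj
  let K : Ideal R := Ideal.span {(u : R) - 1}
  have hKP : K ≤ P := (Ideal.span_singleton_le_iff_mem _).2 (by
    rw [RingHom.mem_ker, map_sub, hχu, map_one, sub_self])
  -- the quotient is integral over the degree zero part
  let B := R ⧸ K
  let π := Ideal.Quotient.mk K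
  letI : Algebra R₀ B := (π.comp R₀.subtype).toAlgebra
  have hu1 : π (u : R) = 1 := by rw [← map_one π]; exact Ideal.Quotient.eq.2 (Ideal.mem_span_singleton_self _)
  have huj : ∀ j : ℤ, π ((u ^ j : Rˣ) : R) = 1 := fun j => by
    have : Units.map (π : R →* B) u = 1 := Units.ext hu1
    show ((Units.map (π : R →* B) (u ^ j) : Bˣ) : B) = 1
    rw [map_zpow, this, one_zpow, Units.val_one]
  have hint : ∀ i, ∀ a ∈ 𝒜 i, IsIntegral R₀ (π a) := fun i a ha => by
    refine IsIntegral.of_pow hN ?_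
    have h1 : a ^ N ∈ 𝒜 ((N : ℤ) * i) := by simpa [nsmul_eq_mul] using SetLike.pow_mem_graded N ha
    have h2 : π (a ^ N) = algebraMap R₀ B ⟨_, mul_zpow_mem 𝒜 N u hu (dvd_mul_right _ _) h1⟩ := by
      show _ = π (a ^ N * _)
      rw [map_mul π (a ^ N), huj, mul_one]
    rw [← map_pow, h2]
    exact isIntegral_algebraMap
  haveI : Algebra.IsIntegral R₀ B := ⟨fun b => by
    obtain ⟨r, rfl⟩ := Ideal.Quotient.mk_surjective b
    rw [← DirectSum.sum_support_decompose 𝒜 r, map_sum]
    exact IsIntegral.sum _ fun i _ => hint i _ (Subtype.prop _)⟩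
  have huniq : ∀ M : Ideal R, M.IsMaximal → K ≤ M → P ≤ M := fun M hM hKM => by
    haveI : (M.map π).IsMaximal :=
      (Ideal.map_eq_top_or_isMaximal_of_surjective π Ideal.Quotient.mk_surjective hM).resolve_left fun h => hM.ne_top (by
        have := congrArg (Ideal.comap π) h
        rwa [Ideal.comap_map_of_surjective π Ideal.Quotient.mk_surjective, ← RingHom.ker_eq_comap_bot, Ideal.mk_ker,
          sup_eq_left.2 hKM, Ideal.comap_top] at this)
    have hcm : (M.map π).comap π = M := by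
      rw [Ideal.comap_map_of_surjective π Ideal.Quotient.mk_surjective, ← RingHom.ker_eq_comap_bot, Ideal.mk_ker,
        sup_eq_left.2 hKM]
    have hm0 : (M.map π).comap (algebraMap R₀ B) = IsLocalRing.maximalIdeal R₀ :=
      IsLocalRing.eq_maximalIdeal (Ideal.isMaximal_comap_of_isIntegral_of_isMaximal _)
    have hmM : ∀ c ∈ IsLocalRing.maximalIdeal R₀, (c : R) ∈ M := fun c hc => by
      rw [← hm0] at hc
      rw [← hcm]
      exact hc
    have hoff : ∀ i, ¬ (N : ℤ) ∣ i → ∀ a ∈ 𝒜 i, a ∈ M := fun i hi a ha => by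
      refine hM.isPrime.mem_of_pow_mem N ?_
      have h1 : a ^ (N - 1) ∈ 𝒜 (((N : ℤ) - 1) * i) := by
        simpa [nsmul_eq_mul, Nat.cast_sub (show 1 ≤ N from hN)] using SetLike.pow_mem_graded (N - 1) ha
      have hd : (N : ℤ) ∣ i + ((N : ℤ) - 1) * i := ⟨i, by ring⟩
      have h2 := hmM _ (prod_mem 𝒜 N hN u hu hm hi hd ha h1)
      rw [show a ^ N = a * a ^ (N - 1) by rw [← pow_succ']; congr 1; omega]
      simpa using M.mul_mem_right ((u ^ ((i + ((N : ℤ) - 1) * i) / N) : Rˣ) : R) h2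
    intro r hr
    -- replace every component by one of degree zero
    let c : ℤ → R := fun i => if (N : ℤ) ∣ i then (DirectSum.decompose 𝒜 r i : R) * ((u ^ (-(i / N)) : Rˣ) : R) else 0
    have hsub : ∀ i, (DirectSum.decompose 𝒜 r i : R) - c i ∈ M := fun i => by
      simp only [c]
      split_ifs with h
      · refine hKM (Ideal.Quotient.eq.1 ?_)
        show π _ = π (_ * _)
        rw [map_mul π ((DirectSum.decompose 𝒜 r i : R)), huj, mul_one]
      · rw [sub_zero]; exact hoff i h _ (Subtype.prop _)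
    have hc0 : ∀ i, c i ∈ R₀ := fun i => by
      simp only [c]
      split_ifs with h
      · exact mul_zpow_mem 𝒜 N u hu h (Subtype.prop _)
      · exact zero_mem _
    let S := (DirectSum.decompose 𝒜 r).support
    have hdiff : r - (∑ i ∈ S, c i) ∈ M := by
      nth_rewrite 1 [← DirectSum.sum_support_decompose 𝒜 r]
      rw [← Finset.sum_sub_distrib]
      exact sum_mem fun i _ => hsub i
    have hχc : ∀ i, χ (c i) = χ (DirectSum.decompose 𝒜 r i : R) := fun i => by
      simp only [c]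
      split_ifs with h
      · rw [map_mul, show χ ((u ^ (-(i / N)) : Rˣ) : R) = 1 from ?_, mul_one]
        have : Units.map (χ : R →* k) u = 1 := Units.ext hχu
        show ((Units.map (χ : R →* k) (u ^ (-(i / N))) : kˣ) : k) = 1
        rw [map_zpow, this, one_zpow, Units.val_one]
      · rw [map_zero]
        symm
        show resHom 𝒜 N hN u hu hm _ hres 1 _ = 0
        rw [resHom, homOfPieces_of_mem 𝒜 _ _ _ (Subtype.prop _), AddMonoidHom.mk'_apply, dif_neg h]
    have hsum : (∑ i ∈ S, c i) ∈ M := by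
      have hz : IsLocalRing.residue R₀ ⟨∑ i ∈ S, c i, sum_mem fun i _ => hc0 i⟩ = 0 := by
        rw [← hχ0, map_sum, Finset.sum_congr rfl fun i _ => hχc i, ← map_sum, DirectSum.sum_support_decompose 𝒜 r]
        exact hr
      exact hmM _ ((IsLocalRing.residue_eq_zero_iff _).1 hz)
    simpa using add_mem hdiff hsum
  let P' : Ideal B := P.map π
  haveI : P'.IsPrime := Ideal.map_isPrime_of_surjective Ideal.Quotient.mk_surjective (by rwa [Ideal.mk_ker])
  haveI hBloc : IsLocalRing B := by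
    have hP'max : P'.IsMaximal :=
      (Ideal.map_eq_top_or_isMaximal_of_surjective π Ideal.Quotient.mk_surjective hPmax).resolve_left
        Ideal.IsPrime.ne_top'
    refine IsLocalRing.of_unique_max_ideal ⟨P', hP'max, fun M hM => ?_⟩
    have hle := huniq (M.comap π) (Ideal.comap_isMaximal_of_surjective π Ideal.Quotient.mk_surjective) (fun x hx => by
      rw [Ideal.mem_comap, Ideal.Quotient.eq_zero_iff_mem.2 hx]; exact zero_mem M)
    exact (hP'max.eq_of_le hM.ne_top (Ideal.map_le_iff_le_comap.2 hle)).symm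
  -- the localization
  let L := Localization.AtPrime P
  haveI : IsRegularLocalRing L := IsRegularRing.isRegularLocalRing_localization P
  let x := algebraMap R L ((u : R) - 1)
  have hx : x ∈ IsLocalRing.maximalIdeal L := by
    rw [← Localization.AtPrime.map_eq_maximalIdeal]
    exact Ideal.mem_map_of_mem _ (hKP (Ideal.mem_span_singleton_self _))
  let g : R₀ →+* DualNumber k := (algebraMap k (DualNumber k)).comp (IsLocalRing.residue R₀)
  have hg : ∀ c ∈ IsLocalRing.maximalIdeal R₀, g c = 0 := fun c hc => by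
    show algebraMap k (DualNumber k) (IsLocalRing.residue R₀ c) = 0
    rw [hres c hc, map_zero]
  let w : (DualNumber k)ˣ := ⟨1 + DualNumber.eps, 1 - DualNumber.eps,
    by linear_combination -(DualNumber.eps_mul_eps (R := k)), by linear_combination -(DualNumber.eps_mul_eps (R := k))⟩
  let δ : R →+* DualNumber k := resHom 𝒜 N hN u hu hm g hg w
  have hfst : ∀ r, (δ r).fst = χ r := fun r => by
    have : ((TrivSqZeroExt.fstHom k k k).toRingHom).comp δ = χ := hom_ext 𝒜 fun i a ha => by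
      by_cases h : (N : ℤ) ∣ i
      · rw [RingHom.comp_apply]
        show (TrivSqZeroExt.fstHom k k k).toRingHom (resHom 𝒜 N hN u hu hm g hg w a) =
          resHom 𝒜 N hN u hu hm _ hres 1 a
        rw [resHom_of_dvd 𝒜 N hN u hu hm g hg w h ha, resHom_of_dvd 𝒜 N hN u hu hm _ hres 1 h ha, map_mul]
        congr 1
        have hw : Units.map ((TrivSqZeroExt.fstHom k k k).toRingHom : DualNumber k →* k) w = 1 :=
          Units.ext (by simp [w])
        show ((Units.map ((TrivSqZeroExt.fstHom k k k).toRingHom : DualNumber k →* k) (w ^ (i / N)) : kˣ) : k) = _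
        rw [map_zpow, hw]
      · rw [RingHom.comp_apply]
        show (TrivSqZeroExt.fstHom k k k).toRingHom (resHom 𝒜 N hN u hu hm g hg w a) =
          resHom 𝒜 N hN u hu hm _ hres 1 a
        rw [resHom, resHom, homOfPieces_of_mem 𝒜 _ _ _ ha, homOfPieces_of_mem 𝒜 _ _ _ ha, AddMonoidHom.mk'_apply,
          AddMonoidHom.mk'_apply, dif_neg h, dif_neg h, map_zero]
    exact congrArg (fun f : R →+* k => f r) this
  have hδunit : ∀ s : P.primeCompl, IsUnit (δ s) := fun s =>
    TrivSqZeroExt.isUnit_iff_isUnit_fst.2 (isUnit_iff_ne_zero.2 (by rw [hfst]; exact s.2))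
  let δ' : L →+* DualNumber k := IsLocalization.lift (M := P.primeCompl) hδunit
  have hx2 : x ∉ IsLocalRing.maximalIdeal L ^ 2 := fun h => by
    have h1 : (IsLocalRing.maximalIdeal L).map δ' ≤ RingHom.ker (TrivSqZeroExt.fstHom k k k).toRingHom := by
      rw [← Localization.AtPrime.map_eq_maximalIdeal, Ideal.map_map, IsLocalization.lift_comp, Ideal.map_le_iff_le_comap]
      intro r hr
      show (δ r).fst = 0
      rw [hfst]; exact hr
    have h2 : δ' x ∈ (RingHom.ker (TrivSqZeroExt.fstHom k k k).toRingHom : Ideal (DualNumber k)) ^ 2 := by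
      refine Ideal.pow_right_mono h1 2 ?_
      rw [← Ideal.map_pow]
      exact Ideal.mem_map_of_mem _ h
    have h3 : (RingHom.ker (TrivSqZeroExt.fstHom k k k).toRingHom : Ideal (DualNumber k)) ^ 2 = ⊥ := by
      rw [pow_two, eq_bot_iff, Ideal.mul_le]
      intro a ha b hb
      refine Submodule.mem_bot _ |>.2 (TrivSqZeroExt.ext ?_ ?_)
      · rw [TrivSqZeroExt.fst_mul, show a.fst = 0 from ha]; simp
      · rw [TrivSqZeroExt.snd_mul, show a.fst = 0 from ha, show b.fst = 0 from hb]; simp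
    rw [h3, Submodule.mem_bot] at h2
    have h4 : δ' x = DualNumber.eps := by
      show IsLocalization.lift hδunit (algebraMap R L _) = _
      rw [IsLocalization.lift_eq, map_sub, map_one, show δ (u : R) = (w : DualNumber k) from resHom_u 𝒜 N hN u hu hm g hg w]
      simp [w]
    rw [h4] at h2
    simpa using congrArg TrivSqZeroExt.snd h2
  have hne : (IsLocalRing.maximalIdeal L).spanFinrank ≠ 0 := fun h => hx2 (by
    have hb := (Submodule.spanFinrank_eq_zero_iff_eq_bot (IsNoetherian.noetherian _)).1 h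
    rw [hb] at hx
    rw [(Submodule.mem_bot L).1 hx]; exact zero_mem _)
  obtain ⟨n, hn⟩ := Nat.exists_eq_succ_of_ne_zero hne
  obtain ⟨hreg, -⟩ := DepthLib.isRegularLocalRing_quotient_singleton hn hx hx2
  haveI : IsLocalization.AtPrime (L ⧸ K.map (algebraMap R L)) P' := by
    unfold IsLocalization.AtPrime
    have hM : Algebra.algebraMapSubmonoid B P.primeCompl = P'.primeCompl := by
      ext y
      constructor
      · rintro ⟨z, hz, rfl⟩
        exact fun h => hz ((Ideal.mem_quotient_iff_mem hKP).1 h)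
      · intro hy
        obtain ⟨z, rfl⟩ := Ideal.Quotient.mk_surjective y
        exact ⟨z, fun h => hy (Ideal.mem_map_of_mem _ h), rfl⟩
    rw [← hM]
    infer_instance
  have hunits : ∀ z ∈ P'.primeCompl, IsUnit z := fun z hz => by
    by_contra hzu
    refine hz ?_
    have : P'.IsMaximal :=
      (Ideal.map_eq_top_or_isMaximal_of_surjective π Ideal.Quotient.mk_surjective hPmax).resolve_left
        Ideal.IsPrime.ne_top'
    rw [IsLocalRing.eq_maximalIdeal this]
    exact hzu
  let e : B ≃+* (L ⧸ K.map (algebraMap R L)) :=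
    (IsLocalization.atUnits B (S := L ⧸ K.map (algebraMap R L)) P'.primeCompl hunits).toRingEquiv
  exact IsRegularLocalRing.of_ringEquiv (R := L ⧸ Ideal.span {x})
    ((Ideal.quotEquivOfEq (by rw [Ideal.map_span, Set.image_singleton])).trans e.symm)

end Groth.Agent.GrUnit
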